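import Groth.Agent.Lib.ValSq12.Chain
import Groth.Agent.Lib.RedSep.Basic
import Groth.Prelude.Def_W4c2submetdescSubtr
import Mathlib.AlgebraicGeometry.Morphisms.Flat
import Mathlib.AlgebraicGeometry.Morphisms.UniversallyOpen
import Mathlib.AlgebraicGeometry.Properties

/-!
# S-subtrusive morphisms and valuation rings
-/

universe u

set_option linter.style.haveILetI false
set_option linter.unusedSectionVars false
set_option backward.isDefEq.respectTransparency.types false

open CategoryTheory CategoryTheory.Limits AlgebraicGeometry IsLocalRing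

namespace Groth.Agent.Subtr12

open ValSq12

theorem univ_of_forall_valRing {X Y : Scheme.{u}} (f : X ⟶ Y)
    (h : ∀ (V : Type u) [CommRing V] [IsDomain V] [ValuationRing V] (g : Spec (CommRingCat.of V) ⟶ Y),
      Subtr.IsSSubtrusive (pullback.snd f g)) : Subtr.UnivSSubtrusive f := by
  intro X' Y' i₁ i₂ f' hP₀ y y' hy
  have hP := hP₀.flip
  obtain ⟨V, _, _, _, g, hg', hg⟩ := exists_valRing_pair hy
  obtain ⟨z, z', hz, h1, h2⟩ := h V (g ≫ i₂) (y := closedPoint V)
    (y' := (⟨⊥, Ideal.isPrime_bot⟩ : PrimeSpectrum V)) (specializes_closedPoint _)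
  let l : pullback f (g ≫ i₂) ⟶ X' :=
    hP.lift (pullback.fst _ _) (pullback.snd _ _ ≫ g) (by rw [Category.assoc]; exact pullback.condition)
  have hl : ∀ w, f' (l w) = g (pullback.snd f (g ≫ i₂) w) := fun w => by
    rw [← Scheme.Hom.comp_apply, hP.lift_snd, Scheme.Hom.comp_apply]
  exact ⟨l z, l z', hz.map l.continuous, by rw [hl, h1, hg], by rw [hl, h2, hg']⟩

theorem isSSubtrusive_of_univ {X Y : Scheme.{u}} {f : X ⟶ Y} (h : Subtr.UnivSSubtrusive f) :
    Subtr.IsSSubtrusive f :=
  h (𝟙 X) (𝟙 Y) f (IsPullback.of_vert_isIso ⟨by simp⟩)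

theorem isSSubtrusive_pullback {X Y T : Scheme.{u}} {f : X ⟶ Y} (h : Subtr.UnivSSubtrusive f)
    (g : T ⟶ Y) : Subtr.IsSSubtrusive (pullback.snd f g) :=
  h _ _ _ (IsPullback.of_hasPullback f g).flip

variable {V : Type u} [CommRing V] [IsDomain V] [ValuationRing V]

/-- An ordered pair over the closed and generic points is dominated by a valuation ring. -/
theorem exists_valRing_surjective {X : Scheme.{u}} (f : X ⟶ Spec (CommRingCat.of V)) {x x' : X}
    (h : x' ⤳ x) (hx : f x = closedPoint V)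
    (hx' : f x' = (⟨⊥, Ideal.isPrime_bot⟩ : PrimeSpectrum V)) :
    ∃ (W : Type u) (_ : CommRing W) (_ : IsDomain W) (_ : ValuationRing W)
      (g : Spec (CommRingCat.of W) ⟶ X), Surjective (g ≫ f) := by
  obtain ⟨W, _, _, _, g, hg', hg⟩ := exists_valRing_pair h
  exact ⟨W, inferInstance, inferInstance, inferInstance, g, surjective_of_closed_generic _
    (by rw [Scheme.Hom.comp_apply, hg, hx]) (by rw [Scheme.Hom.comp_apply, hg', hx'])⟩

/-- A surjective map of valuation spectra has compatible sections on chains. -/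
theorem exists_section {W : Type u} [CommRing W] [IsDomain W] [ValuationRing W]
    (m : Spec (CommRingCat.of W) ⟶ Spec (CommRingCat.of V)) [Surjective m] :
    ∃ σ : Spec (CommRingCat.of V) → Spec (CommRingCat.of W),
      (∀ p, m (σ p) = p) ∧ ∀ p q, p ⤳ q → σ p ⤳ σ q := by
  choose σ hσ using m.surjective
  refine ⟨σ, hσ, fun p q hpq => ?_⟩
  rcases specializes_total (σ p) (σ q) with h | h
  · exact h
  · have h' := h.map m.continuous
    rw [hσ, hσ] at h'
    rw [hpq.antisymm h' |>.eq]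

theorem isSSubtrusive_of_flat {X Y : Scheme.{u}} (f : X ⟶ Y) [Flat f] [Surjective f] :
    Subtr.IsSSubtrusive f := by
  intro y y' h
  obtain ⟨x, rfl⟩ := f.surjective y
  obtain ⟨x', h', rfl⟩ := Flat.generalizingMap f h
  exact ⟨x, x', h', rfl, rfl⟩

theorem univ_of_flat_of_comp {X Y Z : Scheme.{u}} (f : X ⟶ Y) (i : Z ⟶ X) [Flat (i ≫ f)]
    [Surjective (i ≫ f)] : Subtr.UnivSSubtrusive f := by
  intro X' Y' i₁ i₂ f' hP₀ y y' h
  have hP := hP₀.flip
  let q := pullback.snd (i ≫ f) i₂
  haveI : Flat q := inferInstance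
  haveI : Surjective q := inferInstance
  obtain ⟨z, z', hz, h1, h2⟩ := isSSubtrusive_of_flat q h
  let l : pullback (i ≫ f) i₂ ⟶ X' :=
    hP.lift (pullback.fst _ _ ≫ i) q (by rw [Category.assoc]; exact pullback.condition)
  have hl : ∀ w, f' (l w) = q w := fun w => by rw [← Scheme.Hom.comp_apply, hP.lift_snd]
  exact ⟨l z, l z', hz.map l.continuous, by rw [hl, h1], by rw [hl, h2]⟩

/-- A dominant morphism from an integral scheme to the spectrum of a valuation ring is flat. -/
theorem flat_of_generic {Z : Scheme.{u}} [IsIntegral Z] (f : Z ⟶ Spec (CommRingCat.of V))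
    (hf : f (genericPoint Z) = (⟨⊥, Ideal.isPrime_bot⟩ : PrimeSpectrum V)) : Flat f := by
  refine (IsZariskiLocalAtSource.iff_of_openCover (P := @Flat) Z.affineCover).2 fun i => ?_
  let j := Z.affineCover.f i
  rcases isEmpty_or_nonempty (Z.affineCover.X i) with hE | hE
  · infer_instance
  haveI : IsIntegral (Z.affineCover.X i) := isIntegral_of_isOpenImmersion j
  obtain ⟨φ, hφ⟩ : ∃ φ, Spec.map φ = (Z.affineCover.X i).isoSpec.inv ≫ j ≫ f :=
    Spec.map_surjective _
  have : Flat (Spec.map φ) := by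
    rw [HasRingHomProperty.Spec_iff (P := @Flat)]
    letI := φ.hom.toAlgebra
    rw [show φ.hom = algebraMap V Γ(Z.affineCover.X i, ⊤) from rfl, RingHom.flat_algebraMap_iff]
    refine flat_of_injective ?_
    rw [RingHom.injective_iff_ker_eq_bot, RingHom.ker_eq_comap_bot]
    let η : Spec Γ(Z.affineCover.X i, ⊤) := (Z.affineCover.X i).isoSpec.hom (genericPoint _)
    have hη : Spec.map φ η = (⟨⊥, Ideal.isPrime_bot⟩ : PrimeSpectrum V) := by
      rw [← Scheme.Hom.comp_apply, hφ, Iso.hom_inv_id_assoc, Scheme.Hom.comp_apply,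
        genericPoint_eq_of_isOpenImmersion, hf]
    refine le_bot_iff.1 (le_trans (Ideal.comap_mono bot_le) (congrArg PrimeSpectrum.asIdeal hη).le)
  rw [hφ] at this
  have h2 : j ≫ f = (Z.affineCover.X i).isoSpec.hom ≫ ((Z.affineCover.X i).isoSpec.inv ≫ j ≫ f) := by
    simp
  rw [h2]
  infer_instance

theorem exists_flat_closed {W : Type u} [CommRing W] [IsDomain W] [ValuationRing W] {X : Scheme.{u}}
    (f : X ⟶ Spec (CommRingCat.of V)) (g : Spec (CommRingCat.of W) ⟶ X) [Surjective (g ≫ f)] :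
    ∃ (Z : Scheme.{u}) (i : Z ⟶ X), IsClosedImmersion i ∧ Flat (i ≫ f) ∧ Surjective (i ≫ f) := by
  obtain ⟨σ, hσ, hσ'⟩ := exists_section (g ≫ f)
  let ηV : Spec (CommRingCat.of V) := (⟨⊥, Ideal.isPrime_bot⟩ : PrimeSpectrum V)
  let ηW : Spec (CommRingCat.of W) := (⟨⊥, Ideal.isPrime_bot⟩ : PrimeSpectrum W)
  have hgen : f (g ηW) = ηV := by
    rw [← Scheme.Hom.comp_apply]
    refine eq_generic_of_specializes ?_
    have hs : ηW ⤳ σ ηV := (PrimeSpectrum.le_iff_specializes _ _).1 bot_le
    have := hs.map (g ≫ f).continuous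
    rwa [hσ] at this
  let C : TopologicalSpace.Closeds X := ⟨closure {g ηW}, isClosed_closure⟩
  let I := Scheme.IdealSheafData.vanishingIdeal C
  let i := I.subschemeι
  have hrange : Set.range i = closure {g ηW} := by
    rw [Scheme.IdealSheafData.range_subschemeι, Scheme.IdealSheafData.coe_support_vanishingIdeal]
    rfl
  obtain ⟨z, hz⟩ : g ηW ∈ Set.range i := hrange.ge (subset_closure rfl)
  have hzgen : IsGenericPoint z Set.univ := by
    rw [isGenericPoint_def, i.isEmbedding.closure_eq_preimage_closure_image, Set.image_singleton, hz]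
    exact Set.eq_univ_of_forall fun w => hrange.le ⟨w, rfl⟩
  haveI : IrreducibleSpace I.subscheme := irreducibleSpace_def _ |>.2 hzgen.isIrreducible
  haveI : IsReduced I.subscheme := RedSepLib.isReduced_vanishingIdeal_subscheme C
  haveI : IsIntegral I.subscheme := isIntegral_of_irreducibleSpace_of_isReduced _
  refine ⟨_, i, inferInstance, flat_of_generic _ ?_, ⟨fun y => ?_⟩⟩
  · rw [Scheme.Hom.comp_apply, show genericPoint ↥I.subscheme = z from
      (genericPoint_spec _).eq hzgen, hz, hgen]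
  · have hs : g ηW ⤳ g (σ y) := ((PrimeSpectrum.le_iff_specializes _ _).1 bot_le : ηW ⤳ σ y).map g.continuous
    obtain ⟨w, hw⟩ : g (σ y) ∈ Set.range i := hrange.ge hs.mem_closure
    exact ⟨w, by rw [Scheme.Hom.comp_apply, hw, ← Scheme.Hom.comp_apply, hσ]⟩

/-- A point in the closure of the generic fibre generalises into the generic fibre. -/
theorem exists_generic_over {X : Scheme.{u}} (f : X ⟶ Spec (CommRingCat.of V)) {x : X}
    (hx : x ∈ closure (f ⁻¹' {(⟨⊥, Ideal.isPrime_bot⟩ : PrimeSpectrum V)})) :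
    ∃ x' : X, x' ⤳ x ∧ f x' = (⟨⊥, Ideal.isPrime_bot⟩ : PrimeSpectrum V) := by
  let τ := Spec.map (CommRingCat.ofHom (algebraMap V (FractionRing V)))
  haveI : QuasiCompact (pullback.fst f τ) := inferInstance
  have hτ : ∀ z, τ z = (⟨⊥, Ideal.isPrime_bot⟩ : PrimeSpectrum V) :=
    spec_generic_of_field _ (IsFractionRing.injective V _)
  have hr : Set.range (pullback.fst f τ) =
      f ⁻¹' {(⟨⊥, Ideal.isPrime_bot⟩ : PrimeSpectrum V)} := by
    rw [Scheme.Pullback.range_fst]
    ext w
    exact ⟨fun ⟨z, hz⟩ => hz.symm.trans (hτ z),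
      fun hw => ⟨closedPoint (FractionRing V), (hτ _).trans hw.symm⟩⟩
  rw [← hr] at hx
  obtain ⟨z, hz⟩ := QF.exists_specializes_of_mem_closure (pullback.fst f τ) hx
  exact ⟨_, hz, hr.le ⟨z, rfl⟩⟩

end Groth.Agent.Subtr12
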