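import Groth.Agent.Lib.Subtr12.Basic
import Groth.Agent.Lib.DVRVal.Basic
import Groth.Agent.S14765
import Groth.Agent.S14766
import Groth.Prelude.Def_SGA1
import Mathlib.AlgebraicGeometry.Noetherian
import Mathlib.LinearAlgebra.TensorProduct.RightExactness

/-!
# Universally submersive morphisms to Noetherian schemes lift pairs of points
-/

universe u

set_option linter.style.haveILetI false
set_option backward.isDefEq.respectTransparency.types false

open CategoryTheory CategoryTheory.Limits AlgebraicGeometry Topology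
open scoped TensorProduct

namespace Groth.Agent.Subtr12

/-- Quasi-compact universally S-subtrusive morphisms are universally submersive. -/
theorem univSubmersive_of_univSSubtrusive {X Y : Scheme.{u}} (f : X ⟶ Y) [QuasiCompact f]
    (hf : Subtr.UnivSSubtrusive f) : SGA1.UnivSubmersive f := by
  intro X' Y' i₁ i₂ f' hP
  show Topology.IsQuotientMap f'
  haveI : QuasiCompact f' := MorphismProperty.of_isPullback hP.flip ‹_›
  have hs : Subtr.IsSSubtrusive f' := hf _ _ _ hP
  refine Topology.isQuotientMap_iff_isClosed.2 ⟨fun y => ?_, fun C =>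
    ⟨fun hC => hC.preimage f'.continuous, fun hC => isClosed_of_closure_subset fun y hy => ?_⟩⟩
  · obtain ⟨x, -, -, h, -⟩ := hs (specializes_rfl (x := y))
    exact ⟨x, h⟩
  let I := Scheme.IdealSheafData.vanishingIdeal (⟨_, hC⟩ : TopologicalSpace.Closeds X')
  have hr : Set.range I.subschemeι = f' ⁻¹' C := by
    rw [Scheme.IdealSheafData.range_subschemeι, Scheme.IdealSheafData.coe_support_vanishingIdeal]
    rfl
  have hC' : Set.range (I.subschemeι ≫ f') = C := by
    rw [show Set.range (I.subschemeι ≫ f') = f' '' Set.range I.subschemeι from by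
      rw [← Set.range_comp]; rfl, hr]
    exact Set.image_preimage_eq _ fun z => by
      obtain ⟨x, -, -, h, -⟩ := hs (specializes_rfl (x := z))
      exact ⟨x, h⟩
  obtain ⟨w, hw⟩ := QF.exists_specializes_of_mem_closure (I.subschemeι ≫ f')
    (hC'.symm ▸ hy : y ∈ closure (Set.range (I.subschemeι ≫ f')))
  obtain ⟨x, x', hxx', hx, hx'⟩ := hs hw
  have : x' ∈ f' ⁻¹' C := by
    rw [Set.mem_preimage, hx']
    exact hC'.le ⟨w, rfl⟩
  rw [← hx]
  exact hxx'.mem_closed hC this

section Ring

variable {R : Type u} [CommRing R] {B : Type u} [CommRing B] [Algebra R B]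

/-- An element of `B ⊗ P` vanishing in `B ⊗ V` already vanishes over a finitely generated
subalgebra of `V`. -/
theorem exists_finset_map_eq_zero {V : Type u} [CommRing V] [Algebra R V]
    (w : B ⊗[R] MvPolynomial V R)
    (hw : Algebra.TensorProduct.map (AlgHom.id R B) (MvPolynomial.aeval (id : V → V)) w = 0) :
    ∃ s : Finset V, ∀ (A : Subalgebra R V) (θ : MvPolynomial V R →ₐ[R] A),
      (∀ v ∈ s, (θ (MvPolynomial.X v) : V) = v) →
        Algebra.TensorProduct.map (AlgHom.id R B) θ w = 0 := by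
  classical
  let π : MvPolynomial V R →ₗ[R] V := (MvPolynomial.aeval (id : V → V)).toLinearMap
  have hπ : Function.Surjective π := fun v => ⟨MvPolynomial.X v, by simp [π]⟩
  have hex := lTensor_exact B (LinearMap.exact_subtype_ker_map π) hπ
  obtain ⟨y, rfl⟩ := (hex w).1 (by
    rw [← hw]
    rfl)
  clear hw
  induction y with
  | zero => exact ⟨∅, fun A θ _ => by simp⟩
  | add a b ha hb =>
    obtain ⟨s, hs⟩ := ha
    obtain ⟨t, ht⟩ := hb
    refine ⟨s ∪ t, fun A θ h => ?_⟩
    rw [map_add, map_add, hs A θ fun v hv => h v (Finset.mem_union_left _ hv),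
      ht A θ fun v hv => h v (Finset.mem_union_right _ hv), add_zero]
  | tmul b k =>
    refine ⟨k.1.vars, fun A θ h => ?_⟩
    have hk : θ k.1 = 0 := by
      apply Subtype.val_injective
      have e : (A.val.comp θ) k.1 = MvPolynomial.aeval (id : V → V) k.1 := by
        rw [MvPolynomial.aeval_unique (A.val.comp θ)]
        exact MvPolynomial.eval₂Hom_congr' rfl (fun v hv _ => h v hv) rfl
      exact e.trans k.2
    simp [hk]

/-- Without a pair of primes over the ends of a valuation ring there is a torsion relation. -/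
theorem exists_relation {V : Type u} [CommRing V] [IsDomain V] [ValuationRing V] [Algebra R V]
    (h : ∀ q q' : PrimeSpectrum (B ⊗[R] V), q'.asIdeal ≤ q.asIdeal →
      q.asIdeal.comap (Algebra.TensorProduct.includeRight.toRingHom : V →+* B ⊗[R] V) =
        IsLocalRing.maximalIdeal V →
      q'.asIdeal.comap (Algebra.TensorProduct.includeRight.toRingHom : V →+* B ⊗[R] V) = ⊥ →
      False) :
    ∃ (c t : V) (a : B ⊗[R] V), c ≠ 0 ∧ t ∈ IsLocalRing.maximalIdeal V ∧
      (1 ⊗ₜ c) * (1 - (1 ⊗ₜ t) * a) = 0 := by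
  let ι : V →+* B ⊗[R] V := Algebra.TensorProduct.includeRight.toRingHom
  let K : Ideal (B ⊗[R] V) :=
    RingHom.ker (algebraMap (B ⊗[R] V) (Localization ((nonZeroDivisors V).map ι)))
  have htop : K ⊔ (IsLocalRing.maximalIdeal V).map ι = ⊤ := by
    by_contra hne
    obtain ⟨q, hq, hqle⟩ := Ideal.exists_le_maximal _ hne
    have hqm : q.comap ι = IsLocalRing.maximalIdeal V :=
      ((IsLocalRing.maximalIdeal.isMaximal V).eq_of_le (Ideal.comap_ne_top _ hq.ne_top)
        (Ideal.map_le_iff_le_comap.1 (le_sup_right.trans hqle))).symm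
    let S : Submonoid (B ⊗[R] V) := (nonZeroDivisors V).map ι ⊔ q.primeCompl
    have h0 : Disjoint ((⊥ : Ideal (B ⊗[R] V)) : Set (B ⊗[R] V)) S := by
      rw [Set.disjoint_left]
      intro z hz hzS
      rw [SetLike.mem_coe, Submodule.mem_bot] at hz
      subst hz
      obtain ⟨x, hx, r, hr, hxr⟩ := Submonoid.mem_sup.1 hzS
      exact hr (hqle (le_sup_left (b := (IsLocalRing.maximalIdeal V).map ι)
        ((IsLocalization.map_eq_zero_iff ((nonZeroDivisors V).map ι) _ _).2 ⟨⟨x, hx⟩, hxr⟩)))
    obtain ⟨q', hq', -, hdis⟩ := Ideal.exists_le_prime_disjoint _ _ h0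
    refine h ⟨q, hq.isPrime⟩ ⟨q', hq'⟩ (fun x hx => ?_) hqm (le_bot_iff.1 fun v hv => ?_)
    · by_contra hxq
      exact Set.disjoint_left.1 hdis hx (Submonoid.mem_sup_right hxq)
    · by_contra hv0
      exact Set.disjoint_left.1 hdis hv (Submonoid.mem_sup_left
        ⟨v, mem_nonZeroDivisors_of_ne_zero hv0, rfl⟩)
  obtain ⟨k, hk, m, hm, hkm⟩ := Submodule.mem_sup.1 (htop.ge (Submodule.mem_top (x := 1)))
  obtain ⟨⟨_, c, hc, rfl⟩, hck⟩ :=
    (IsLocalization.map_eq_zero_iff ((nonZeroDivisors V).map ι) _ _).1 hk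
  have hma : ∃ t ∈ IsLocalRing.maximalIdeal V, ∃ a, m = ι t * a := by
    clear hkm hck
    refine Submodule.span_induction ?_ ⟨0, zero_mem _, 0, by simp⟩ ?_ ?_ hm
    · rintro _ ⟨t, ht, rfl⟩
      exact ⟨t, ht, 1, (mul_one _).symm⟩
    · rintro _ _ - - ⟨t, ht, a, rfl⟩ ⟨t', ht', a', rfl⟩
      rcases ValuationRing.cond t t' with ⟨d, hd | hd⟩
      · exact ⟨t, ht, a + ι d * a', by rw [← hd, map_mul]; ring⟩
      · exact ⟨t', ht', ι d * a + a', by rw [← hd, map_mul]; ring⟩
    · rintro r _ - ⟨t, ht, a, rfl⟩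
      exact ⟨t, ht, r * a, by rw [smul_eq_mul]; ring⟩
  obtain ⟨t, ht, a, rfl⟩ := hma
  refine ⟨c, t, a, nonZeroDivisors.ne_zero hc, ht, ?_⟩
  have : k = 1 - ι t * a := by rw [← hkm]; ring
  rw [this] at hck
  exact hck

/-- A torsion relation forbids pairs of primes over the ends. -/
theorem no_pair_of_relation {D : Type u} [CommRing D] [IsLocalRing D] [Algebra R D]
    {c t : D} (hc : c ≠ 0) (ht : t ∈ IsLocalRing.maximalIdeal D) {a : B ⊗[R] D}
    (h : (1 ⊗ₜ c) * (1 - (1 ⊗ₜ t) * a) = 0) (q q' : PrimeSpectrum (B ⊗[R] D))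
    (hle : q'.asIdeal ≤ q.asIdeal)
    (hq : q.asIdeal.comap (Algebra.TensorProduct.includeRight.toRingHom : D →+* B ⊗[R] D) =
      IsLocalRing.maximalIdeal D)
    (hq' : q'.asIdeal.comap (Algebra.TensorProduct.includeRight.toRingHom : D →+* B ⊗[R] D) = ⊥) :
    False := by
  have hcq' : (1 : B) ⊗ₜ[R] c ∉ q'.asIdeal := fun hmem =>
    hc ((Submodule.mem_bot D).1 (hq'.le hmem))
  have h1 : 1 - (1 ⊗ₜ t) * a ∈ q.asIdeal :=
    hle ((q'.isPrime.mem_or_mem (h ▸ q'.asIdeal.zero_mem)).resolve_left hcq')
  have h2 : ((1 : B) ⊗ₜ[R] t) * a ∈ q.asIdeal :=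
    Ideal.mul_mem_right _ _ (hq.ge ht)
  exact q.isPrime.ne_top ((Ideal.eq_top_iff_one _).2 (by simpa using add_mem h1 h2))

end Ring

/-- A Noetherian local domain which is not a field is dominated by a discrete valuation ring. -/
theorem exists_dvr_of_local {O : Type u} [CommRing O] [IsDomain O] [IsLocalRing O] [IsNoetherianRing O]
    (hO : IsLocalRing.maximalIdeal O ≠ ⊥) :
    ∃ (D : Type u) (_ : CommRing D) (_ : IsDomain D) (_ : IsDiscreteValuationRing D) (g : O →+* D),
      Function.Injective g ∧ ∀ x ∈ IsLocalRing.maximalIdeal O, g x ∈ IsLocalRing.maximalIdeal D := by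
  have hker : RingHom.ker (algebraMap O (FractionRing O)) ≠ IsLocalRing.maximalIdeal O := by
    rw [(RingHom.injective_iff_ker_eq_bot _).1 (IsFractionRing.injective O (FractionRing O))]
    exact hO.symm
  obtain ⟨D, hD, hmem, hlt⟩ := DVRVal.exists_dvr O (FractionRing O) (algebraMap O (FractionRing O))
    (RingHom.essFiniteType_algebraMap.2
      (Algebra.EssFiniteType.of_isLocalization (FractionRing O) (nonZeroDivisors O))) hker
  exact ⟨D, inferInstance, inferInstance, hD,
    (algebraMap O (FractionRing O)).codRestrict D.toSubring fun x => hmem _,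
    fun x y hxy => IsFractionRing.injective O _ (congrArg Subtype.val hxy),
    fun x hx => (D.valuation_lt_one_iff _).2 (hlt _ hx)⟩

/-- A nonzero prime of a Noetherian domain is dominated by a discrete valuation ring. -/
theorem exists_dvr_of_prime {A : Type u} [CommRing A] [IsDomain A] [IsNoetherianRing A] (p : Ideal A)
    [p.IsPrime] (hp : p ≠ ⊥) :
    ∃ (D : Type u) (_ : CommRing D) (_ : IsDomain D) (_ : IsDiscreteValuationRing D) (g : A →+* D),
      Function.Injective g ∧ ∀ x ∈ p, g x ∈ IsLocalRing.maximalIdeal D := by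
  have : IsDomain (Localization.AtPrime p) :=
    IsLocalization.isDomain_localization p.primeCompl_le_nonZeroDivisors
  have hinj : Function.Injective (algebraMap A (Localization.AtPrime p)) :=
    IsLocalization.injective (Localization.AtPrime p) p.primeCompl_le_nonZeroDivisors
  have hmax : ∀ x ∈ p, algebraMap A (Localization.AtPrime p) x ∈
      IsLocalRing.maximalIdeal (Localization.AtPrime p) := fun x hx =>
    (IsLocalization.AtPrime.to_map_mem_maximal_iff _ p x).2 hx
  obtain ⟨D, i1, i2, i3, g, hg, hgm⟩ := exists_dvr_of_local (O := Localization.AtPrime p) fun h => by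
    obtain ⟨x, hx, hx0⟩ := (Submodule.ne_bot_iff _).1 hp
    have := hmax x hx
    rw [h, Submodule.mem_bot] at this
    exact hx0 (hinj (this.trans (map_zero _).symm))
  exact ⟨D, i1, i2, i3, g.comp (algebraMap A _), hg.comp hinj, fun x hx => hgm _ (hmax x hx)⟩

section Chart

variable (R : Type u) [CommRing R] (W : Type u) [CommRing W] [Algebra R W]
variable {X : Scheme.{u}} (f : X ⟶ Spec (CommRingCat.of R))

/-- Piece of the base change of `f` cut out by an affine chart. -/
noncomputable def chartMap {B : Type u} [CommRing B] [Algebra R B]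
    (j : Spec (CommRingCat.of B) ⟶ X)
    (hj : j ≫ f = Spec.map (CommRingCat.ofHom (algebraMap R B))) :
    Spec (CommRingCat.of (B ⊗[R] W)) ⟶
      pullback f (Spec.map (CommRingCat.ofHom (algebraMap R W))) :=
  (pullbackSpecIso R B W).inv ≫ pullback.map _ _ _ _ j (𝟙 _) (𝟙 _)
    (by rw [hj, Category.comp_id]) (by simp)

theorem chartMap_snd {B : Type u} [CommRing B] [Algebra R B] (j : Spec (CommRingCat.of B) ⟶ X)
    (hj : j ≫ f = Spec.map (CommRingCat.ofHom (algebraMap R B))) :
    chartMap R W f j hj ≫ pullback.snd _ _ =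
      Spec.map (CommRingCat.ofHom
        (Algebra.TensorProduct.includeRight.toRingHom : W →+* B ⊗[R] W)) := by
  rw [chartMap, Category.assoc, pullback.lift_snd, Category.comp_id, pullbackSpecIso_inv_snd]
  rfl

instance {B : Type u} [CommRing B] [Algebra R B] (j : Spec (CommRingCat.of B) ⟶ X)
    [IsOpenImmersion j] (hj : j ≫ f = Spec.map (CommRingCat.ofHom (algebraMap R B))) :
    IsOpenImmersion (chartMap R W f j hj) := by
  delta chartMap; infer_instance

theorem range_chartMap {B : Type u} [CommRing B] [Algebra R B] (j : Spec (CommRingCat.of B) ⟶ X)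
    (hj : j ≫ f = Spec.map (CommRingCat.ofHom (algebraMap R B))) :
    Set.range (chartMap R W f j hj) =
      pullback.fst f (Spec.map (CommRingCat.ofHom (algebraMap R W))) ⁻¹' Set.range j := by
  rw [chartMap, Scheme.Hom.comp_base, TopCat.coe_comp, Set.range_comp,
    Set.range_eq_univ.2 (pullbackSpecIso R B W).inv.surjective, Set.image_univ,
    Scheme.Pullback.range_map]
  simp

end Chart

set_option maxHeartbeats 1000000 in
set_option synthInstance.maxHeartbeats 100000 in
/-- Over a Noetherian affine base a surjective quasi-compact morphism which lifts the pairs formed by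
the ends of discrete valuation rings lifts those of all valuation rings. -/
theorem exists_pair_of_forall_dvr {R : Type u} [CommRing R] [IsNoetherianRing R] {X : Scheme.{u}}
    (f : X ⟶ Spec (CommRingCat.of R)) [QuasiCompact f] (hs : Function.Surjective f)
    (hD : ∀ (D : Type u) [CommRing D] [IsDomain D] [IsDiscreteValuationRing D] [Algebra R D],
      ∃ x x' : ↥(pullback f (Spec.map (CommRingCat.ofHom (algebraMap R D)))), x' ⤳ x ∧
        pullback.snd f (Spec.map (CommRingCat.ofHom (algebraMap R D))) x =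
          IsLocalRing.closedPoint D ∧
        pullback.snd f (Spec.map (CommRingCat.ofHom (algebraMap R D))) x' =
          (⟨⊥, Ideal.isPrime_bot⟩ : PrimeSpectrum D))
    (V : Type u) [CommRing V] [IsDomain V] [ValuationRing V] [Algebra R V] :
    ∃ x x' : ↥(pullback f (Spec.map (CommRingCat.ofHom (algebraMap R V)))),
      x' ⤳ x ∧
      pullback.snd f (Spec.map (CommRingCat.ofHom (algebraMap R V))) x =
        IsLocalRing.closedPoint V ∧
      pullback.snd f (Spec.map (CommRingCat.ofHom (algebraMap R V))) x' =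
        (⟨⊥, Ideal.isPrime_bot⟩ : PrimeSpectrum V) := by
  classical
  by_contra hno
  obtain ⟨t₀, ht₀, ht₀0⟩ : ∃ t₀ ∈ IsLocalRing.maximalIdeal V, t₀ ≠ 0 := by
    refine (Submodule.ne_bot_iff _).1 fun hm => hno ?_
    let gV := Spec.map (CommRingCat.ofHom (algebraMap R V))
    obtain ⟨x, hx⟩ : ∃ x, pullback.snd f gV x = IsLocalRing.closedPoint V :=
      have : Surjective f := ⟨hs⟩
      (pullback.snd f gV).surjective _
    exact ⟨x, x, specializes_rfl, hx, hx.trans (PrimeSpectrum.ext hm)⟩
  have : CompactSpace X := QuasiCompact.compactSpace_of_compactSpace f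
  let 𝒰 := X.affineCover.finiteSubcover
  have : ∀ i, IsAffine (𝒰.X i) := fun i => inferInstanceAs (IsAffine (Spec _))
  let B : 𝒰.I₀ → Type u := fun i => Γ(𝒰.X i, ⊤)
  let j : ∀ i, Spec (CommRingCat.of (B i)) ⟶ X := fun i => (𝒰.X i).isoSpec.inv ≫ 𝒰.f i
  let φ : ∀ i, CommRingCat.of R ⟶ CommRingCat.of (B i) := fun i => Spec.preimage (j i ≫ f)
  let : ∀ i, Algebra R (B i) := fun i => (φ i).hom.toAlgebra
  have hj : ∀ i, j i ≫ f = Spec.map (CommRingCat.ofHom (algebraMap R (B i))) := fun i => by
    show _ = Spec.map (φ i)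
    rw [Spec.map_preimage]
  have hrel : ∀ i, ∃ (c t : V) (a : B i ⊗[R] V), c ≠ 0 ∧ t ∈ IsLocalRing.maximalIdeal V ∧
      (1 ⊗ₜ c) * (1 - (1 ⊗ₜ t) * a) = 0 := fun i => exists_relation fun q q' hle hq hq' => by
    refine hno ⟨chartMap R V f (j i) (hj i) q, chartMap R V f (j i) (hj i) q',
      ((PrimeSpectrum.le_iff_specializes _ _).1 hle).map (chartMap R V f (j i) (hj i)).continuous,
      ?_, ?_⟩
    · rw [← Scheme.Hom.comp_apply, chartMap_snd]
      exact PrimeSpectrum.ext hq
    · rw [← Scheme.Hom.comp_apply, chartMap_snd]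
      exact PrimeSpectrum.ext hq'
  choose c t a hc ht h using hrel
  let π : MvPolynomial V R →ₐ[R] V := MvPolynomial.aeval id
  have hπ : Function.Surjective π := fun v => ⟨MvPolynomial.X v, by simp [π]⟩
  have hsurj : ∀ i, Function.Surjective (Algebra.TensorProduct.map (AlgHom.id R (B i)) π) :=
    fun i => TensorProduct.map_surjective Function.surjective_id hπ
  choose a' ha' using fun i => hsurj i (a i)
  choose s hs using fun i => exists_finset_map_eq_zero
    ((1 ⊗ₜ MvPolynomial.X (c i)) * (1 - (1 ⊗ₜ MvPolynomial.X (t i)) * a' i)) (by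
      simp only [map_mul, map_sub, map_one, Algebra.TensorProduct.map_tmul, MvPolynomial.aeval_X,
        id_eq]
      rw [ha' i]
      exact h i)
  let S : Finset V := insert t₀ (Finset.univ.biUnion fun i => insert (c i) (insert (t i) (s i)))
  let A : Subalgebra R V := Algebra.adjoin R (S : Set V)
  have hA : ∀ v ∈ S, v ∈ A := fun v hv => Algebra.subset_adjoin hv
  have : Algebra.FiniteType R A := ⟨(Subalgebra.fg_top A).2 (Subalgebra.fg_adjoin_finset S)⟩
  have : IsNoetherianRing A := Algebra.FiniteType.isNoetherianRing R A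
  let θ : MvPolynomial V R →ₐ[R] A :=
    MvPolynomial.aeval fun v => if hv : v ∈ A then (⟨v, hv⟩ : A) else 0
  have hθ : ∀ v ∈ S, (θ (MvPolynomial.X v) : V) = v := fun v hv => by simp [θ, hA v hv]
  let p : Ideal A := (IsLocalRing.maximalIdeal V).comap A.val.toRingHom
  have hp : p.IsPrime := Ideal.IsPrime.comap _
  have hmemS : ∀ i, c i ∈ S ∧ t i ∈ S ∧ ∀ v ∈ s i, v ∈ S := fun i =>
    ⟨Finset.mem_insert_of_mem (Finset.mem_biUnion.2 ⟨i, Finset.mem_univ _, Finset.mem_insert_self _ _⟩),
      Finset.mem_insert_of_mem (Finset.mem_biUnion.2 ⟨i, Finset.mem_univ _,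
        Finset.mem_insert_of_mem (Finset.mem_insert_self _ _)⟩),
      fun v hv => Finset.mem_insert_of_mem (Finset.mem_biUnion.2 ⟨i, Finset.mem_univ _,
        Finset.mem_insert_of_mem (Finset.mem_insert_of_mem hv)⟩)⟩
  -- a discrete valuation ring dominating `A` at `p`
  obtain ⟨D, _, _, _, _, ιD, hιD, hpD⟩ : ∃ (D : Type u) (_ : CommRing D) (_ : IsDomain D)
      (_ : IsDiscreteValuationRing D) (_ : Algebra R D) (ιD : A →ₐ[R] D),
      Function.Injective ιD ∧ ∀ x ∈ p, ιD x ∈ IsLocalRing.maximalIdeal D := by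
    have hbot : p ≠ ⊥ := fun hbot => by
      have hmem : (⟨t₀, hA _ (Finset.mem_insert_self _ _)⟩ : A) ∈ p := ht₀
      rw [hbot, Submodule.mem_bot] at hmem
      exact ht₀0 (congrArg Subtype.val hmem)
    obtain ⟨D, i1, i2, i3, g, hg, hgp⟩ := exists_dvr_of_prime p hbot
    let : Algebra R D := (g.comp (algebraMap R A)).toAlgebra
    exact ⟨D, i1, i2, i3, inferInstance, { g with commutes' := fun r => rfl }, hg, hgp⟩
  let gD := Spec.map (CommRingCat.ofHom (algebraMap R D))
  obtain ⟨x, x', hxx', hx, hx'⟩ := hD D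
  obtain ⟨i, b, hb⟩ := 𝒰.exists_eq (pullback.fst f gD x)
  have hjr : Set.range (j i) = Set.range (𝒰.f i) := by
    rw [show Set.range (j i) = 𝒰.f i '' Set.range (𝒰.X i).isoSpec.inv from by
      rw [← Set.range_comp]; rfl, Set.range_eq_univ.2 (𝒰.X i).isoSpec.inv.surjective,
      Set.image_univ]
  let e := chartMap R D f (j i) (hj i)
  have hxe : x ∈ Set.range e := by
    rw [range_chartMap, Set.mem_preimage, hjr]
    exact ⟨b, hb⟩
  have : IsOpenImmersion (j i) := inferInstance
  have hx'e : x' ∈ Set.range e := hxx'.mem_open e.isOpenEmbedding.isOpen_range hxe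
  obtain ⟨q, rfl⟩ := hxe
  obtain ⟨q', rfl⟩ := hx'e
  rw [← Scheme.Hom.comp_apply, chartMap_snd] at hx hx'
  have hrelD := congrArg (Algebra.TensorProduct.map (AlgHom.id R (B i)) ιD)
    (hs i A θ fun v hv => hθ v ((hmemS i).2.2 v hv))
  simp only [map_mul, map_sub, map_one, map_zero, Algebra.TensorProduct.map_tmul] at hrelD
  refine no_pair_of_relation ?_ (hpD _ ?_) hrelD q q' ?_ (congrArg PrimeSpectrum.asIdeal hx)
    (congrArg PrimeSpectrum.asIdeal hx')
  · intro hz
    have := congrArg Subtype.val (hιD (hz.trans (map_zero ιD).symm))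
    rw [hθ _ (hmemS i).1] at this
    exact hc i this
  · show (θ (MvPolynomial.X (t i)) : V) ∈ IsLocalRing.maximalIdeal V
    rw [hθ _ (hmemS i).2.1]
    exact ht i
  · exact (PrimeSpectrum.le_iff_specializes _ _).2 (e.isEmbedding.isInducing.specializes_iff.1 hxx')

/-- Over a Noetherian affine base a universally submersive quasi-compact morphism lifts the pair
formed by the ends of a valuation ring. -/
theorem exists_pair_of_univSubmersive {R : Type u} [CommRing R] [IsNoetherianRing R] {X : Scheme.{u}}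
    (f : X ⟶ Spec (CommRingCat.of R)) [QuasiCompact f] (hf : SGA1.UnivSubmersive f)
    (V : Type u) [CommRing V] [IsDomain V] [ValuationRing V] [Algebra R V] :
    ∃ x x' : ↥(pullback f (Spec.map (CommRingCat.ofHom (algebraMap R V)))),
      x' ⤳ x ∧
      pullback.snd f (Spec.map (CommRingCat.ofHom (algebraMap R V))) x =
        IsLocalRing.closedPoint V ∧
      pullback.snd f (Spec.map (CommRingCat.ofHom (algebraMap R V))) x' =
        (⟨⊥, Ideal.isPrime_bot⟩ : PrimeSpectrum V) := by
  refine exists_pair_of_forall_dvr f (hf _ _ _ ((IsPullback.of_vert_isIso ⟨by simp⟩ : IsPullback f (𝟙 X) (𝟙 _) f))).surjective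
    (fun D _ _ _ _ => ?_) V
  let gD := Spec.map (CommRingCat.ofHom (algebraMap R D))
  exact ((Groth.Agent.S14766.result D _).1 (hf _ _ _ (IsPullback.of_hasPullback f gD).flip))
    (y := IsLocalRing.closedPoint D) (y' := (⟨⊥, Ideal.isPrime_bot⟩ : PrimeSpectrum D))
    (IsLocalRing.specializes_closedPoint _)

end Groth.Agent.Subtr12
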