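import Groth.Agent.Lib.Subtr12.Basic
import Groth.Agent.Lib.H12.Specialization
import Mathlib.AlgebraicGeometry.Morphisms.FinitePresentation
import Mathlib.RingTheory.Spectrum.Prime.ConstructibleSet
import Mathlib.AlgebraicGeometry.PullbackCarrier
import Mathlib.Topology.LocallyClosed

/-!
# Locally closed subsets and universally S-subtrusive morphisms
-/

universe u

set_option linter.style.haveILetI false
set_option backward.isDefEq.respectTransparency.types false

open CategoryTheory CategoryTheory.Limits AlgebraicGeometry IsLocalRing Topology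

namespace Groth.Agent.Subtr12

open ValSq12

/-- A retrocompact locally closed subset is the range of a quasi-compact morphism. -/
theorem exists_quasiCompact_range {X : Scheme.{u}} {A : Set X} (hA : IsLocallyClosed A)
    (hA' : IsRetrocompact A) :
    ∃ (Z : Scheme.{u}) (j : Z ⟶ X), QuasiCompact j ∧ Set.range j = A := by
  let U : X.Opens := ⟨coborder A, hA.isOpen_coborder⟩
  let C : TopologicalSpace.Closeds U.toScheme :=
    ⟨U.ι ⁻¹' closure A, isClosed_closure.preimage U.ι.continuous⟩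
  let I := Scheme.IdealSheafData.vanishingIdeal C
  let j := I.subschemeι ≫ U.ι
  have hr : Set.range I.subschemeι = U.ι ⁻¹' closure A := by
    rw [Scheme.IdealSheafData.range_subschemeι, Scheme.IdealSheafData.coe_support_vanishingIdeal]
    rfl
  have hj : Set.range j = A := by
    rw [show Set.range j = U.ι '' Set.range I.subschemeι from by
      rw [← Set.range_comp]; rfl, hr, Set.image_preimage_eq_inter_range, U.range_ι]
    exact closure_inter_coborder
  refine ⟨_, j, ⟨fun V hV hV' => ?_⟩, hj⟩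
  rw [j.isEmbedding.isInducing.isCompact_iff, Set.image_preimage_eq_inter_range, hj, Set.inter_comm]
  exact hA' hV' hV

/-- The range of a quasi-compact morphism is retrocompact. -/
theorem isRetrocompact_range {X Y : Scheme.{u}} (j : X ⟶ Y) [QuasiCompact j] :
    IsRetrocompact (Set.range j) := fun U hU hU' => by
  rw [Set.inter_comm, ← Set.image_preimage_eq_inter_range]
  exact (QuasiCompact.isCompact_preimage (f := j) U hU' hU).image j.continuous

theorem isSSubtrusive_restrict {X Y : Scheme.{u}} {f : X ⟶ Y} (h : Subtr.UnivSSubtrusive f)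
    (U : Y.Opens) : Subtr.UnivSSubtrusive (f ∣_ U) :=
  (MorphismProperty.universally_isStableUnderBaseChange (fun _ _ f => Subtr.IsSSubtrusive f)).of_isPullback
    (isPullback_morphismRestrict f U).flip h

theorem surjective_of_univ {X Y : Scheme.{u}} {f : X ⟶ Y} (h : Subtr.UnivSSubtrusive f) (y : Y) :
    ∃ x, f x = y := by
  obtain ⟨x, -, -, hx, -⟩ := isSSubtrusive_of_univ h (specializes_rfl (x := y))
  exact ⟨x, hx⟩

/-- Chains of three points lift along universally S-subtrusive morphisms. -/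
theorem exists_lift_chain {X Y : Scheme.{u}} {f : X ⟶ Y} (hf : Subtr.UnivSSubtrusive f)
    {a b c : Y} (hab : a ⤳ b) (hbc : b ⤳ c) :
    ∃ a' b' c' : X, a' ⤳ b' ∧ b' ⤳ c' ∧ f a' = a ∧ f b' = b ∧ f c' = c := by
  obtain ⟨L, _, V, g, p, hp, hpy, -⟩ := exists_chain 2 ![a, b, c] fun i j hij => by
    fin_cases i <;> fin_cases j <;>
      first | exact specializes_rfl | exact hab | exact hbc | exact hab.trans hbc |
        exact absurd hij (by decide)
  obtain ⟨x, x', hx, h1, h2⟩ := isSSubtrusive_pullback hf g (y := closedPoint V)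
    (y' := (⟨⊥, Ideal.isPrime_bot⟩ : PrimeSpectrum V)) (specializes_closedPoint _)
  obtain ⟨W, _, _, _, h, hsurj⟩ := exists_valRing_surjective (pullback.snd f g) hx h1 h2
  obtain ⟨σ, hσ, hσ'⟩ := exists_section (h ≫ pullback.snd f g)
  have key : ∀ i, f ((h ≫ pullback.fst f g) (σ (p i))) = ![a, b, c] i := fun i => by
    rw [← Scheme.Hom.comp_apply, Category.assoc, pullback.condition, ← Category.assoc,
      Scheme.Hom.comp_apply, hσ, hpy]
  exact ⟨_, _, _, (hσ' _ _ (hp 0 1 (by decide))).map (h ≫ pullback.fst f g).continuous,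
    (hσ' _ _ (hp 1 2 (by decide))).map (h ≫ pullback.fst f g).continuous, key 0, key 1, key 2⟩

/-- Local closedness descends along universally S-subtrusive quasi-compact morphisms when the
preimage is the range of a quasi-compact morphism. -/
theorem isLocallyClosed_of_preimage {X Y Z : Scheme.{u}} (f : X ⟶ Y) [QuasiCompact f]
    (hf : Subtr.UnivSSubtrusive f) {E : Set Y} (hA : IsLocallyClosed (f ⁻¹' E)) (j : Z ⟶ X)
    [QuasiCompact j] (hj : Set.range j = f ⁻¹' E) : IsLocallyClosed E := by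
  let B : Set X := closure (f ⁻¹' E) \ f ⁻¹' E
  have hB : IsClosed B := by
    have h := hA.isOpen_coborder
    rw [coborder, isOpen_compl_iff] at h
    exact h
  have heq : closure E \ E = f '' B := by
    refine Set.Subset.antisymm (fun y ⟨hy, hyE⟩ => ?_) ?_
    · have hy' : y ∈ closure (Set.range (j ≫ f)) := by
        refine closure_mono (fun e he => ?_) hy
        obtain ⟨x, rfl⟩ := surjective_of_univ hf e
        obtain ⟨z, rfl⟩ := hj.ge (show x ∈ f ⁻¹' E from he)
        exact ⟨z, rfl⟩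
      obtain ⟨z, hz⟩ := H12.exists_specializes_of_mem_closure_range (j ≫ f) _ hy'
      obtain ⟨x, x', hxx', hx, hx'⟩ := isSSubtrusive_of_univ hf hz
      have hx'E : x' ∈ f ⁻¹' E := by
        rw [Set.mem_preimage, hx', Scheme.Hom.comp_apply]
        exact hj.le ⟨z, rfl⟩
      exact ⟨x, ⟨hxx'.mem_closed isClosed_closure (subset_closure hx'E),
        fun h => hyE (hx ▸ h)⟩, hx⟩
    · rintro _ ⟨x, ⟨hx, hxE⟩, rfl⟩
      exact ⟨f.continuous.closure_preimage_subset E hx, hxE⟩
  refine isLocallyClosed_iff_isOpen_coborder.2 ?_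
  rw [coborder, isOpen_compl_iff, heq]
  refine isClosed_of_closure_subset fun z hz => ?_
  let I := Scheme.IdealSheafData.vanishingIdeal (⟨B, hB⟩ : TopologicalSpace.Closeds X)
  have hr : Set.range I.subschemeι = B := by
    rw [Scheme.IdealSheafData.range_subschemeι, Scheme.IdealSheafData.coe_support_vanishingIdeal]
    rfl
  have hz' : z ∈ closure (Set.range (I.subschemeι ≫ f)) := by
    rw [show Set.range (I.subschemeι ≫ f) = f '' Set.range I.subschemeι from by
      rw [← Set.range_comp]; rfl, hr]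
    exact hz
  obtain ⟨w, hw⟩ := H12.exists_specializes_of_mem_closure_range (I.subschemeι ≫ f) _ hz'
  rw [Scheme.Hom.comp_apply] at hw
  have hy : f (I.subschemeι w) ∈ closure E \ E := heq.ge ⟨_, hr.le ⟨w, rfl⟩, rfl⟩
  rw [← heq]
  refine ⟨hw.mem_closed isClosed_closure hy.1, fun hzE => hy.2 ?_⟩
  have hy' : f (I.subschemeι w) ∈ closure (Set.range (j ≫ f)) := by
    refine closure_mono (fun e he => ?_) hy.1
    obtain ⟨x, rfl⟩ := surjective_of_univ hf e
    obtain ⟨v, rfl⟩ := hj.ge (show x ∈ f ⁻¹' E from he)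
    exact ⟨v, rfl⟩
  obtain ⟨v, hv⟩ := H12.exists_specializes_of_mem_closure_range (j ≫ f) _ hy'
  obtain ⟨a', b', c', h1, h2, ha, hb, hc⟩ := exists_lift_chain hf hv hw
  have ha' : a' ∈ f ⁻¹' E := by
    rw [Set.mem_preimage, ha, Scheme.Hom.comp_apply]
    exact hj.le ⟨v, rfl⟩
  by_contra hyE
  have hb' : b' ∈ B := ⟨h1.mem_closed isClosed_closure (subset_closure ha'), fun h => hyE (hb ▸ h)⟩
  exact (h2.mem_closed hB hb').2 (show f c' ∈ E by rw [hc]; exact hzE)

/-- The range of a quasi-compact morphism pulls back to the range of a quasi-compact morphism. -/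
theorem exists_quasiCompact_range_preimage {X Y Z : Scheme.{u}} (f : X ⟶ Y) (j : Z ⟶ Y)
    [QuasiCompact j] :
    ∃ (Z' : Scheme.{u}) (j' : Z' ⟶ X), QuasiCompact j' ∧ Set.range j' = f ⁻¹' Set.range j :=
  ⟨_, pullback.fst f j, inferInstance, Scheme.Pullback.range_fst f j⟩

/-- A point all of whose generalisations are in a constructible subset of an affine scheme is in
its interior. -/
theorem mem_interior_of_isConstructible {X : Scheme.{u}} [IsAffine X] {C : Set X}
    (hC : IsConstructible C) {x : X} (h : ∀ z, z ⤳ x → z ∈ C) : x ∈ interior C := by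
  rw [← compl_compl (interior C), ← closure_compl]
  intro hx
  let e := X.isoSpec.inv
  have hC' : IsConstructible (show Set (PrimeSpectrum Γ(X, ⊤)) from e ⁻¹' Cᶜ) :=
    e.isConstructible_preimage hC.compl
  obtain ⟨S, _, φ, hφ⟩ := PrimeSpectrum.exists_range_eq_of_isConstructible hC'
  let m : Spec (CommRingCat.of S) ⟶ X := Spec.map (CommRingCat.ofHom φ) ≫ e
  have hm : Set.range m = Cᶜ := by
    rw [show Set.range m = e '' Set.range (Spec.map (CommRingCat.ofHom φ)) from by
      rw [← Set.range_comp]; rfl]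
    rw [show Set.range (Spec.map (CommRingCat.ofHom φ)) = e ⁻¹' Cᶜ from hφ]
    exact Set.image_preimage_eq _ e.homeomorph.surjective
  obtain ⟨z, hz⟩ := H12.exists_specializes_of_mem_closure_range m _ (hm.symm ▸ hx)
  exact hm.le ⟨z, rfl⟩ (h _ hz)

/-- Local closedness descends along universally S-subtrusive morphisms of finite presentation. -/
theorem isLocallyClosed_of_preimage_fp {X Y : Scheme.{u}} (f : X ⟶ Y)
    [LocallyOfFinitePresentation f] [QuasiCompact f] [QuasiSeparated f]
    (hf : Subtr.UnivSSubtrusive f) {E : Set Y} (hA : IsLocallyClosed (f ⁻¹' E)) :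
    IsLocallyClosed E := by
  refine ((isLocallyClosed_tfae E).out 0 3).2 fun y hy => ?_
  obtain ⟨V, hV, hyV, -⟩ := exists_isAffineOpen_mem_and_subset (X := Y) (x := y) (U := ⊤) trivial
  have : IsAffine V.toScheme := hV
  let g := f ∣_ V
  have : QuasiCompact g := IsZariskiLocalAtTarget.restrict (P := @QuasiCompact) ‹_› V
  have : QuasiSeparated g := IsZariskiLocalAtTarget.restrict (P := @QuasiSeparated) ‹_› V
  have : LocallyOfFinitePresentation g :=
    IsZariskiLocalAtTarget.restrict (P := @LocallyOfFinitePresentation) ‹_› V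
  have : CompactSpace ↥(f ⁻¹ᵁ V).toScheme := QuasiCompact.compactSpace_of_compactSpace g
  have : QuasiSeparatedSpace ↥(f ⁻¹ᵁ V).toScheme := quasiSeparatedSpace_of_quasiSeparated g
  have hg : Subtr.UnivSSubtrusive g := isSSubtrusive_restrict hf V
  let E' : Set V.toScheme := V.ι ⁻¹' E
  let A : Set (f ⁻¹ᵁ V).toScheme := g ⁻¹' E'
  have hAeq : A = (f ⁻¹ᵁ V).ι ⁻¹' (f ⁻¹' E) := by
    ext x
    show V.ι (g x) ∈ E ↔ f ((f ⁻¹ᵁ V).ι x) ∈ E
    rw [← Scheme.Hom.comp_apply, ← Scheme.Hom.comp_apply, morphismRestrict_ι]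
  have hA' : IsLocallyClosed A := hAeq ▸ hA.preimage (f ⁻¹ᵁ V).ι.continuous
  -- a quasi-compact open containing the fibre in which `A` is closed
  have hfib : IsCompact (g ⁻¹' {⟨y, hyV⟩}) := g.isCompact_preimage_singleton _
  choose W hW hxW hWA using fun x : g ⁻¹' {(⟨y, hyV⟩ : V.toScheme)} =>
    exists_isAffineOpen_mem_and_subset (X := (f ⁻¹ᵁ V).toScheme) (x := x.1)
      (U := ⟨coborder A, hA'.isOpen_coborder⟩) (subset_coborder (by
        show g x.1 ∈ E'
        rw [show g x.1 = ⟨y, hyV⟩ from x.2]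
        exact hy))
  obtain ⟨T, hT⟩ := hfib.elim_finite_subcover (ι := ↥(g ⁻¹' {(⟨y, hyV⟩ : V.toScheme)})) (fun x => (W x : Set ↥(f ⁻¹ᵁ V).toScheme)) (fun x => (W x).isOpen)
    fun x hx => Set.mem_iUnion.2 ⟨⟨x, hx⟩, hxW ⟨x, hx⟩⟩
  let U : (f ⁻¹ᵁ V).toScheme.Opens := ⨆ x ∈ T, W x
  have hUeq : (U : Set _) = ⋃ x ∈ T, (W x : Set ↥(f ⁻¹ᵁ V).toScheme) := by simp [U]
  have hUc : IsCompact (U : Set (f ⁻¹ᵁ V).toScheme) :=
    hUeq ▸ T.finite_toSet.isCompact_biUnion fun x _ => (hW x).isCompact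
  have hUr : IsRetrocompact (U : Set (f ⁻¹ᵁ V).toScheme) :=
    (QuasiSeparatedSpace.isRetrocompact_iff_isCompact U.isOpen).2 hUc
  have hUA : (U : Set _) ∩ closure A ⊆ A := by
    rintro x ⟨hx, hxA⟩
    obtain ⟨i, -, hi⟩ := Set.mem_iUnion₂.1 (hUeq ▸ hx)
    have hco : x ∈ coborder A := hWA i hi
    by_contra hxA'
    exact hco ⟨hxA, hxA'⟩
  have hgU : IsConstructible (g '' (U : Set _)) :=
    g.isConstructible_image (hUr.isConstructible U.isOpen)
  have hint : (⟨y, hyV⟩ : V.toScheme) ∈ interior (g '' (U : Set _)) :=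
    mem_interior_of_isConstructible hgU fun z hz => by
      obtain ⟨x, x', hxx', hx, hx'⟩ := isSSubtrusive_of_univ hg hz
      have hxU : x ∈ (U : Set _) := hUeq ▸ hT (show g x = _ from hx)
      exact ⟨x', hxx'.mem_open U.isOpen hxU, hx'⟩
  obtain ⟨N, hN, hyN, hNU⟩ := exists_isAffineOpen_mem_and_subset (X := V.toScheme) (x := ⟨y, hyV⟩)
    (U := ⟨_, isOpen_interior⟩) hint
  -- the trace of `A` on `U` over `N` covers the trace of `E`
  let h := g ∣_ N
  have : QuasiCompact h := IsZariskiLocalAtTarget.restrict (P := @QuasiCompact) ‹_› N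
  have hh : Subtr.UnivSSubtrusive h := isSSubtrusive_restrict hg N
  have : IsAffine N.toScheme := hN
  have : CompactSpace ↥(g ⁻¹ᵁ N).toScheme := QuasiCompact.compactSpace_of_compactSpace h
  have : QuasiSeparatedSpace ↥(g ⁻¹ᵁ N).toScheme := by
    have : QuasiSeparated h := IsZariskiLocalAtTarget.restrict (P := @QuasiSeparated) ‹_› N
    exact quasiSeparatedSpace_of_quasiSeparated h
  let ι := (g ⁻¹ᵁ N).ι
  let K : Set (g ⁻¹ᵁ N).toScheme := ι ⁻¹' closure A ∩ ι ⁻¹' (U : Set _)
  have hKl : IsLocallyClosed K :=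
    (isClosed_closure.preimage ι.continuous).isLocallyClosed.inter
      (U.isOpen.preimage ι.continuous).isLocallyClosed
  have hKr : IsRetrocompact K := fun O hO hO' => by
    have hUc' : IsCompact (ι ⁻¹' (U : Set _) ∩ O) := by
      refine QuasiSeparatedSpace.inter_isCompact _ _ (U.isOpen.preimage ι.continuous) ?_ hO' hO
      rw [ι.isEmbedding.isInducing.isCompact_iff, Set.image_preimage_eq_inter_range,
        Scheme.Opens.range_ι]
      exact QuasiSeparatedSpace.inter_isCompact _ _ U.isOpen hUc (g ⁻¹ᵁ N).isOpen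
        (isCompact_iff_compactSpace.2 (inferInstanceAs (CompactSpace ↥(g ⁻¹ᵁ N).toScheme)))
    show IsCompact (ι ⁻¹' closure A ∩ ι ⁻¹' (U : Set _) ∩ O)
    rw [Set.inter_assoc]
    exact hUc'.inter_left (isClosed_closure.preimage ι.continuous)
  obtain ⟨Z, j, _, hj⟩ := exists_quasiCompact_range hKl hKr
  let EN : Set N.toScheme := N.ι ⁻¹' E'
  have hEN : h ⁻¹' EN = ι ⁻¹' A := by
    ext x
    show N.ι (h x) ∈ E' ↔ g (ι x) ∈ E'
    rw [← Scheme.Hom.comp_apply, ← Scheme.Hom.comp_apply, morphismRestrict_ι]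
  have hrange : Set.range (j ≫ h) = EN := by
    rw [show Set.range (j ≫ h) = h '' Set.range j from by rw [← Set.range_comp]; rfl, hj]
    refine Set.Subset.antisymm ?_ fun e he => ?_
    · rintro _ ⟨x, hx, rfl⟩
      exact hEN.ge (hUA ⟨hx.2, hx.1⟩)
    · obtain ⟨x, hxU, hxe⟩ := interior_subset (hNU e.2)
      have hxN : x ∈ g ⁻¹ᵁ N := show g x ∈ N from hxe ▸ e.2
      refine ⟨⟨x, hxN⟩, ⟨subset_closure (?_ : g x ∈ E'), hxU⟩,
        Subtype.ext ((morphismRestrict_base_coe g N _).trans hxe)⟩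
      rw [hxe]
      exact he
  obtain ⟨Z', j', _, hj'⟩ := exists_quasiCompact_range_preimage h (j ≫ h)
  have hENlc : IsLocallyClosed EN := isLocallyClosed_of_preimage h hh
    (hEN ▸ hA'.preimage ι.continuous) j' (hj'.trans (by rw [hrange]))
  have hloc : ∀ x ∈ EN, ∃ U, x ∈ U ∧ IsOpen U ∧ U ∩ closure EN ⊆ EN :=
    ((isLocallyClosed_tfae EN).out 0 3 rfl rfl).1 hENlc
  obtain ⟨O, hyO, hO, hOE⟩ := hloc ⟨⟨y, hyV⟩, hyN⟩ hy
  let m := N.ι ≫ V.ι
  refine ⟨m '' O, ⟨_, hyO, rfl⟩, m.isOpenEmbedding.isOpenMap _ hO, ?_⟩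
  rintro _ ⟨⟨z, hz, rfl⟩, hzE⟩
  have : z ∈ closure (m ⁻¹' E) := by
    rw [← m.isOpenEmbedding.isOpenMap.preimage_closure_eq_closure_preimage m.continuous]
    exact hzE
  exact hOE ⟨hz, this⟩

end Groth.Agent.Subtr12
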