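import Mathlib.AlgebraicGeometry.Morphisms.QuasiCompact
import Mathlib.AlgebraicGeometry.Restrict
import Mathlib.AlgebraicGeometry.Properties

/-!
# Closures of images of closed sets under quasi-compact morphisms
-/

universe u

open CategoryTheory AlgebraicGeometry TopologicalSpace

namespace Groth.Agent.Subtr12

variable {X Y : Scheme.{u}}

theorem exists_specializes_of_mem_closure_image (f : X ⟶ Y) [QuasiCompact f] {C : Set X} (hC : IsClosed C)
    {y : Y} (hy : y ∈ closure (f '' C)) : ∃ z ∈ C, f z ⤳ y := by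
  obtain ⟨V, hV, hyV, -⟩ := exists_isAffineOpen_mem_and_subset (show y ∈ (⊤ : Y.Opens) from trivial)
  haveI : CompactSpace (f ⁻¹ᵁ V : Scheme.{u}) :=
    isCompact_iff_compactSpace.1 (f.isCompact_preimage hV.isCompact)
  obtain ⟨R, g, hg⟩ := compactSpace_iff_exists.mp (inferInstance : CompactSpace (f ⁻¹ᵁ V : Scheme.{u}))
  obtain ⟨φ, hφ⟩ := Spec.homEquiv.symm.surjective (g ≫ (f ∣_ V) ≫ hV.isoSpec.hom)
  change Spec.map φ = _ at hφ
  have hpt : ∀ r : Spec R, (f ∣_ V) (g r) = hV.isoSpec.inv (PrimeSpectrum.comap φ.hom r) := fun r => by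
    have h : (g ≫ (f ∣_ V) ≫ hV.isoSpec.hom) r = PrimeSpectrum.comap φ.hom r := by rw [← hφ]; rfl
    rw [← h, Scheme.Hom.comp_apply, Scheme.Hom.comp_apply, ← Scheme.Hom.comp_apply hV.isoSpec.hom, Iso.hom_inv_id]
    rfl
  obtain ⟨I, hI⟩ := (PrimeSpectrum.isClosed_iff_zeroLocus_ideal _).1
    ((hC.preimage (f ⁻¹ᵁ V).ι.continuous).preimage g.continuous)
  have h1 : hV.isoSpec.hom ⟨y, hyV⟩ ∈ closure (PrimeSpectrum.comap φ.hom '' PrimeSpectrum.zeroLocus I) := by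
    rw [mem_closure_iff] at hy
    refine mem_closure_iff.2 fun O hO hyO => ?_
    have hO' : IsOpen (Subtype.val '' (hV.isoSpec.hom ⁻¹' O)) :=
      V.isOpen.isOpenMap_subtype_val _ (hO.preimage hV.isoSpec.hom.continuous)
    obtain ⟨w, hwO, x, hx, hxw⟩ := hy _ hO' ⟨_, hyO, rfl⟩
    obtain ⟨v, hv, rfl⟩ := hwO
    obtain ⟨r, hr⟩ := hg ⟨x, show f x ∈ V from hxw ▸ v.2⟩
    refine ⟨PrimeSpectrum.comap φ.hom r, ?_, r, hI ▸ (show (f ⁻¹ᵁ V).ι (g r) ∈ C by rw [hr]; exact hx), rfl⟩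
    have e1 : (f ∣_ V) (g r) = v := Subtype.ext (by rw [morphismRestrict_base_coe, hr]; exact hxw)
    rw [hpt] at e1
    have e2 := congrArg hV.isoSpec.hom e1
    rw [← Scheme.Hom.comp_apply, Iso.inv_hom_id] at e2
    exact (show PrimeSpectrum.comap φ.hom r = hV.isoSpec.hom v from e2).symm ▸ hv
  rw [PrimeSpectrum.closure_image_comap_zeroLocus] at h1
  obtain ⟨q, hq₁, hq₂⟩ := Ideal.exists_minimalPrimes_le (J := (hV.isoSpec.hom ⟨y, hyV⟩).asIdeal) h1
  obtain ⟨p', hp', hIp', hpq⟩ := Ideal.exists_comap_eq_of_mem_minimalPrimes φ.hom _ hq₁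
  let r : Spec R := ⟨p', hp'⟩
  refine ⟨(f ⁻¹ᵁ V).ι (g r), hI.ge hIp', ?_⟩
  have h2 : PrimeSpectrum.comap φ.hom r ⤳ hV.isoSpec.hom ⟨y, hyV⟩ :=
    (PrimeSpectrum.le_iff_specializes _ _).1 (show p'.comap φ.hom ≤ _ from hpq ▸ hq₂)
  have h3 := (h2.map hV.isoSpec.inv.continuous).map V.ι.continuous
  rw [← hpt] at h3
  have e3 : hV.isoSpec.inv (hV.isoSpec.hom ⟨y, hyV⟩) = ⟨y, hyV⟩ := by
    rw [← Scheme.Hom.comp_apply, Iso.hom_inv_id]; rfl
  rw [e3] at h3
  have e4 : V.ι ((f ∣_ V) (g r)) = f ((f ⁻¹ᵁ V).ι (g r)) := morphismRestrict_base_coe f V _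
  rw [e4] at h3
  exact h3

theorem exists_maximal_generization (y : Y) : ∃ η : Y, η ⤳ y ∧ ∀ η' : Y, η' ⤳ η → η' = η := by
  have hsub : closure ({y} : Set Y) ⊆ Set.univ := Set.subset_univ _
  obtain ⟨Z, hZ, hyZ, hmax⟩ := exists_preirreducible ({y} : Set Y) isPreirreducible_singleton
  have hZirr : IsIrreducible Z := ⟨⟨y, hyZ rfl⟩, hZ⟩
  obtain ⟨η, hη⟩ := QuasiSober.sober hZirr.closure isClosed_closure
  refine ⟨η, hη.specializes (subset_closure (hyZ rfl)), fun η' h => ?_⟩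
  have hZη' : Z ⊆ closure {η'} := fun z hz =>
    (h.trans (hη.specializes (subset_closure hz))).mem_closure
  have h' := hmax _ isPreirreducible_singleton.closure hZη'
  have : η ⤳ η' := hη.specializes (subset_closure (h' ▸ subset_closure rfl))
  exact (h.antisymm this).eq

end Groth.Agent.Subtr12
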